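import Mathlib.AlgebraicGeometry.Properties
import Mathlib.AlgebraicGeometry.Noetherian
import Mathlib.AlgebraicGeometry.FunctionField
import Mathlib.RingTheory.IntegralClosure.IntegrallyClosed
import Mathlib.Topology.Sheaves.SheafCondition.UniqueGluing

set_option linter.unusedSectionVars false
set_option linter.unusedVariables false
set_option linter.unusedSimpArgs false
set_option autoImplicit false
set_option linter.style.haveILetI false
set_option maxHeartbeats 400000

namespace Groth.Agent.Helper6.NormExtLib

open AlgebraicGeometry CategoryTheory TopologicalSpace Opposite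

universe u

variable (X : Scheme.{u}) [AlgebraicGeometry.IsIntegral X]

lemma genericPoint_mem (W : X.Opens) [h : Nonempty W] : genericPoint X ∈ W :=
  ((genericPoint_spec X).mem_open_set_iff W.isOpen).mpr (by simpa using h)

/-- `germToFunctionField` is compatible with restriction. -/
lemma germToFF_res {W W' : X.Opens} [Nonempty W] [Nonempty W'] (i : W' ⟶ W) (s : Γ(X, W)) :
    X.germToFunctionField W' (X.presheaf.map i.op s) = X.germToFunctionField W s :=
  X.presheaf.germ_res_apply i (genericPoint X) (genericPoint_mem X W') s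

instance nonempty_top : Nonempty (⊤ : X.Opens) :=
  ⟨⟨(inferInstance : Nonempty X).some, trivial⟩⟩

/-- An element of the function field lying in every stalk comes from a global section. -/
lemma exists_global_section (β : X.functionField)
    (hβ : ∀ x : X, ∃ r : X.presheaf.stalk x, algebraMap (X.presheaf.stalk x) X.functionField r = β) :
    ∃ s : Γ(X, ⊤), X.germToFunctionField ⊤ s = β := by
  -- local representatives
  have hloc : ∀ x : X, ∃ (W : X.Opens) (hx : x ∈ W) (s : Γ(X, W)),
      ∀ hW : Nonempty W, @Scheme.germToFunctionField X _ W hW s = β := by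
    intro x
    obtain ⟨r, hr⟩ := hβ x
    obtain ⟨W, hxW, s, hs⟩ := X.presheaf.exists_germ_eq r
    refine ⟨W, hxW, s, fun hW => ?_⟩
    rw [← hr, ← hs]
    exact (Scheme.algebraMap_germ_eq_germToFunctionField X hxW s).symm
  choose W hxW sf hsf using hloc
  have hne : ∀ x, Nonempty (W x) := fun x => ⟨⟨x, hxW x⟩⟩
  have hcompat : TopCat.Presheaf.IsCompatible X.presheaf W sf := by
    intro x y
    haveI hxy : Nonempty (W x ⊓ W y : X.Opens) := by
      have h := nonempty_preirreducible_inter (W x).isOpen (W y).isOpen
        ⟨x, hxW x⟩ ⟨y, hxW y⟩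
      obtain ⟨z, hz⟩ := h
      exact ⟨⟨z, hz⟩⟩
    apply Scheme.germToFunctionField_injective X (W x ⊓ W y)
    have e1 := germToFF_res X (W := W x) (W' := W x ⊓ W y) (Opens.infLELeft (W x) (W y)) (sf x)
    have e2 := germToFF_res X (W := W y) (W' := W x ⊓ W y) (Opens.infLERight (W x) (W y)) (sf y)
    exact e1.trans ((hsf x (hne x)).trans ((hsf y (hne y)).symm.trans e2.symm))
  have hcover : (⊤ : X.Opens) ≤ iSup W := by
    intro x _
    exact Opens.mem_iSup.mpr ⟨x, hxW x⟩
  obtain ⟨s, hs, -⟩ := X.sheaf.existsUnique_gluing' W ⊤ (fun x => homOfLE le_top) hcover sf hcompat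
  refine ⟨s, ?_⟩
  -- pick any point
  obtain ⟨x⟩ : Nonempty X := inferInstance
  haveI := hne x
  have e := germToFF_res X (W := ⊤) (W' := W x) (homOfLE le_top) s
  rw [← e]
  have := hs x
  rw [show X.presheaf.map (homOfLE (le_top : W x ≤ ⊤)).op s = sf x from this]
  exact hsf x (hne x)

theorem mem_range_of_isIntegralElem
    (hX : ∀ x : X, IsDomain (X.presheaf.stalk x) ∧ IsIntegrallyClosed (X.presheaf.stalk x))
    (U : X.Opens) (b : Γ(X, U))
    (hb : (X.presheaf.map (homOfLE le_top : U ⟶ ⊤).op).hom.IsIntegralElem b) :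
    b ∈ Set.range (X.presheaf.map (homOfLE le_top : U ⟶ ⊤).op).hom := by
  by_cases hU : Nonempty U
  swap
  · have hbot : U = ⊥ := by
      ext x
      constructor
      · intro hx; exact (hU ⟨⟨x, hx⟩⟩).elim
      · intro hx; exact hx.elim
    subst hbot
    exact ⟨0, Subsingleton.elim _ _⟩
  haveI := hU
  obtain ⟨p, hmonic, hp⟩ := hb
  set ρ := (X.presheaf.map (homOfLE le_top : U ⟶ ⊤).op).hom with hρ
  set β : X.functionField := X.germToFunctionField U b with hβdef
  have hρres : ∀ s : Γ(X, ⊤), X.germToFunctionField U (ρ s) = X.germToFunctionField ⊤ s :=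
    fun s => germToFF_res X (W := ⊤) (W' := U) (homOfLE le_top) s
  have hβ : ∀ x : X, ∃ r : X.presheaf.stalk x,
      algebraMap (X.presheaf.stalk x) X.functionField r = β := by
    intro x
    haveI := (hX x).2
    apply IsIntegrallyClosed.algebraMap_eq_of_integral
    refine ⟨p.map (X.presheaf.germ ⊤ x trivial).hom, hmonic.map _, ?_⟩
    rw [Polynomial.eval₂_map]
    have hcomp : (algebraMap (X.presheaf.stalk x) X.functionField).comp
        (X.presheaf.germ ⊤ x trivial).hom = (X.germToFunctionField U).hom.comp ρ := by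
      ext s
      simp only [RingHom.comp_apply]
      rw [Scheme.algebraMap_germ_eq_germToFunctionField X (U := ⊤) (x := x) trivial s]
      exact (hρres s).symm
    rw [hcomp, hβdef, ← Polynomial.hom_eval₂, hp, map_zero]
  obtain ⟨s, hs⟩ := exists_global_section X β hβ
  refine ⟨s, ?_⟩
  apply Scheme.germToFunctionField_injective X U
  exact (hρres s).trans hs

end Groth.Agent.Helper6.NormExtLib
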